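import Mathlib
import Groth.Prelude.Def_GLin
import Groth.Prelude.Def_ComodSub
import Groth.Agent.Comod.Basic
import Groth.Agent.LinRed.Units
import Groth.Agent.LinRed.HopfReduced

/-!
# The equivariant form of Zariski's main theorem
-/

set_option autoImplicit false
set_option maxHeartbeats 800000

universe u

open TensorProduct AlgebraicGeometry CategoryTheory Groth.Agent

namespace Groth.Agent.EquivZMT

theorem isOpenImmersion_of_charts {X T : Scheme.{u}} (j : X ⟶ T) {ι : Type*} (Z : ι → Scheme.{u})
    (e : ∀ i, Z i ⟶ X) [∀ i, IsOpenImmersion (e i)] (hcov : ∀ x : X, ∃ i, x ∈ Set.range (e i))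
    (he : ∀ i, IsOpenImmersion (e i ≫ j)) (hinj : Function.Injective j) : IsOpenImmersion j := by
  refine IsOpenImmersion.iff_isIso_stalkMap.2 ⟨.of_continuous_injective_isOpenMap j.continuous hinj
    fun U hU => ?_, fun x => ?_⟩
  · have : j '' U = ⋃ i, (e i ≫ j) '' ((e i) ⁻¹' U) := by
      ext y
      simp only [Set.mem_image, Set.mem_iUnion, Set.mem_preimage, Scheme.Hom.comp_apply]
      constructor
      · rintro ⟨x, hx, rfl⟩
        obtain ⟨i, z, rfl⟩ := hcov x
        exact ⟨i, z, hx, rfl⟩
      · rintro ⟨i, z, hz, rfl⟩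
        exact ⟨e i z, hz, rfl⟩
    rw [this]
    exact isOpen_iUnion fun i => haveI := he i
      (e i ≫ j).isOpenEmbedding.isOpenMap _ (hU.preimage (e i).continuous)
  · obtain ⟨i, z, rfl⟩ := hcov x
    haveI := he i
    haveI : IsIso (j.stalkMap (e i z) ≫ (e i).stalkMap z) := by
      rw [← Scheme.Hom.stalkMap_comp]
      exact (IsOpenImmersion.iff_isIso_stalkMap.1 (he i)).2 z
    exact IsIso.of_isIso_comp_right (j.stalkMap (e i z)) ((e i).stalkMap z)

theorem isOpenImmersion_specMap_of_awayMap {B R : Type u} [CommRing B] [CommRing R] (f : B →+* R)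
    (s : Set B) (hs : Ideal.span (f '' s) = ⊤)
    (h : ∀ r ∈ s, Function.Bijective (Localization.awayMap f r)) :
    IsOpenImmersion (Spec.map (CommRingCat.ofHom f)) := by
  have hex : ∀ p : PrimeSpectrum R, ∃ r ∈ s, f r ∉ p.asIdeal := by
    intro p
    by_contra! hall
    refine p.isPrime.ne_top (top_le_iff.1 (hs.symm.le.trans (Ideal.span_le.2 ?_)))
    rintro - ⟨r, hr, rfl⟩
    exact hall r hr
  let e : ∀ r : s, Spec (CommRingCat.of (Localization.Away (f r))) ⟶ Spec (CommRingCat.of R) := fun r =>
    Spec.map (CommRingCat.ofHom (algebraMap R (Localization.Away (f r))))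
  haveI : ∀ r, IsOpenImmersion (e r) := fun r =>
    IsOpenImmersion.of_isLocalization (R := R) (S := Localization.Away (f r)) (f r)
  have hrange : ∀ (r : s) (p : PrimeSpectrum R), f r ∉ p.asIdeal → ∃ z, (e r) z = p := by
    intro r p hp
    have : p ∈ Set.range (PrimeSpectrum.comap (algebraMap R (Localization.Away (f r)))) := by
      rw [PrimeSpectrum.localization_away_comap_range _ (f r)]; exact hp
    exact this
  have he : ∀ r, IsOpenImmersion (e r ≫ Spec.map (CommRingCat.ofHom f)) := by
    intro r
    have hcomp : (algebraMap R (Localization.Away (f r))).comp f =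
        (Localization.awayMap f r.1).comp (algebraMap B (Localization.Away r.1)) := by
      ext x
      simp [Localization.awayMap, IsLocalization.Away.map]
    haveI : IsIso (CommRingCat.ofHom (Localization.awayMap f r.1)) :=
      (RingEquiv.ofBijective _ (h r.1 r.2)).toCommRingCatIso.isIso_hom
    haveI : IsOpenImmersion (Spec.map (CommRingCat.ofHom (algebraMap B (Localization.Away r.1)))) :=
      IsOpenImmersion.of_isLocalization (R := B) (S := Localization.Away r.1) r.1
    rw [← Spec.map_comp, ← CommRingCat.ofHom_comp, hcomp, CommRingCat.ofHom_comp, Spec.map_comp]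
    infer_instance
  refine isOpenImmersion_of_charts _ _ e (fun x => ?_) he fun p q hpq => ?_
  · obtain ⟨r, hr, hp⟩ := hex x
    exact ⟨⟨r, hr⟩, hrange ⟨r, hr⟩ x hp⟩
  · obtain ⟨r, hr, hp⟩ := hex p
    have hpq' : p.asIdeal.comap f = q.asIdeal.comap f := congrArg PrimeSpectrum.asIdeal hpq
    have hq : f r ∉ q.asIdeal := by
      intro hq
      exact hp (Ideal.mem_comap.1 (hpq'.ge (Ideal.mem_comap.2 hq)))
    obtain ⟨z, rfl⟩ := hrange ⟨r, hr⟩ p hp
    obtain ⟨w, rfl⟩ := hrange ⟨r, hr⟩ q hq
    haveI := he ⟨r, hr⟩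
    exact congrArg _ ((e ⟨r, hr⟩ ≫ Spec.map (CommRingCat.ofHom f)).isOpenEmbedding.injective
      (by simpa only [Scheme.Hom.comp_apply] using hpq))

theorem awayMap_surjective_of_le {S R : Type u} [CommRing S] [CommRing R] [Algebra S R]
    (S' : Subalgebra S R) (r : S') {B : Type u} [CommRing B] (ι : B →+* R)
    (hle : ∀ x : S', ∃ b : B, ι b = x) (b : B) (hb : ι b = r)
    (h : Function.Surjective (Localization.awayMap S'.val.toRingHom r)) :
    Function.Surjective (Localization.awayMap ι b) := by
  intro y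
  obtain ⟨⟨a, ⟨_, m, rfl⟩⟩, rfl⟩ := IsLocalization.mk'_surjective (Submonoid.powers (ι b)) y
  obtain ⟨z, hz⟩ := h (algebraMap R (Localization.Away (S'.val.toRingHom r)) a)
  obtain ⟨⟨x, ⟨_, n, rfl⟩⟩, rfl⟩ := IsLocalization.mk'_surjective (Submonoid.powers r) z
  simp only [Localization.awayMap, IsLocalization.Away.map, IsLocalization.map_mk',
    IsLocalization.mk'_eq_iff_eq_mul, ← map_mul] at hz
  obtain ⟨⟨_, l, rfl⟩, hl⟩ := (IsLocalization.eq_iff_exists (Submonoid.powers (S'.val.toRingHom r)) _).1 hz
  obtain ⟨c, hc⟩ := hle x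
  have hl' : (r : R) ^ l * (x : R) = (r : R) ^ l * (a * (r : R) ^ n) := by simpa using hl
  refine ⟨IsLocalization.mk' _ (b ^ l * c) (⟨b ^ (l + n + m), l + n + m, rfl⟩ : Submonoid.powers b), ?_⟩
  simp only [Localization.awayMap, IsLocalization.Away.map, IsLocalization.map_mk']
  rw [IsLocalization.mk'_eq_iff_eq]
  congr 1
  simp only [map_mul, map_pow, hb, hc]
  rw [hl']
  ring

theorem main (k : Type u) [Field k] [IsAlgClosed k] [CharZero k]
    (A : Type u) [CommRing A] [HopfAlgebra k A] [Algebra.FiniteType k A]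
    (S : Type u) [CommRing S] [Algebra k S] [Algebra.FiniteType k S] [HopfRep.Comod k A S] [GLin.IsCoactAlg k A S]
    (R : Type u) [CommRing R] [Algebra k R] [Algebra.FiniteType k R] [HopfRep.Comod k A R] [GLin.IsCoactAlg k A R]
    [Algebra S R] [IsScalarTower k S R] [Algebra.QuasiFinite S R]
    (hequiv : (∀ s : S, HopfRep.Comod.coact (k := k) (A := A) (algebraMap S R s) =
      Algebra.TensorProduct.map (IsScalarTower.toAlgHom k S R) (AlgHom.id k A) (HopfRep.Comod.coact (k := k) (A := A) s))) :
    ∃ (B : Type u) (_ : CommRing B) (_ : Algebra k B) (_ : HopfRep.Comod k A B) (_ : GLin.IsCoactAlg k A B),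
      Algebra.FiniteType k B ∧
      ∃ (ψ : S →ₐ[k] B) (i : B →ₐ[k] R),
        (∀ s : S, HopfRep.Comod.coact (k := k) (A := A) (ψ s) =
        Algebra.TensorProduct.map ψ (AlgHom.id k A) (HopfRep.Comod.coact (k := k) (A := A) s)) ∧
        (∀ s : B, HopfRep.Comod.coact (k := k) (A := A) (i s) =
        Algebra.TensorProduct.map i (AlgHom.id k A) (HopfRep.Comod.coact (k := k) (A := A) s)) ∧
        i.comp ψ = IsScalarTower.toAlgHom k S R ∧ ψ.toRingHom.Finite ∧
        AlgebraicGeometry.IsOpenImmersion (AlgebraicGeometry.Spec.map (CommRingCat.ofHom i.toRingHom)) := by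
  classical
  haveI : _root_.IsReduced A := LinRed.isReduced_of_hopfAlgebra_charZero k A
  haveI : Algebra.FiniteType S R := Algebra.FiniteType.of_restrictScalars_finiteType k S R
  -- translation by a point
  let σ : ∀ (_ : A →ₐ[k] k), R →ₐ[k] R := fun g =>
    ((Algebra.TensorProduct.rid k k R).toAlgHom.comp (Algebra.TensorProduct.map (AlgHom.id k R) g)).comp
      (GLin.coactAlgHom k A R)
  let τ : ∀ (_ : A →ₐ[k] k), S →ₐ[k] S := fun g =>
    ((Algebra.TensorProduct.rid k k S).toAlgHom.comp (Algebra.TensorProduct.map (AlgHom.id k S) g)).comp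
      (GLin.coactAlgHom k A S)
  have hστ : ∀ g s, σ g (algebraMap S R s) = algebraMap S R (τ g s) := by
    intro g s
    simp only [σ, τ, AlgHom.comp_apply, GLin.coactAlgHom_apply, hequiv]
    generalize HopfRep.Comod.coact (k := k) (A := A) s = z
    induction z with
    | zero => simp
    | tmul a b => simp [Algebra.smul_def, IsScalarTower.algebraMap_apply k S R]
    | add a b ha hb => simp only [map_add, ha, hb]
  have hσ : ∀ g x, Comod.slR g.toLinearMap (HopfRep.Comod.coact (k := k) (A := A) x) = σ g x := by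
    intro g x
    simp only [σ, AlgHom.comp_apply, GLin.coactAlgHom_apply]
    generalize HopfRep.Comod.coact (k := k) (A := A) x = z
    induction z with
    | zero => simp
    | tmul a b => simp
    | add a b ha hb => simp only [map_add, ha, hb]
  let C : Submodule k R := (integralClosure S R).toSubmodule.restrictScalars k
  have hC : HopfRep.IsSubcomod (k := k) (A := A) C := Comod.isSubcomod_iff.2 fun φ v hv => by
    rw [Comod.actL_apply]
    refine LinRed.slR_mem_of_forall_point (fun g => ?_) φ
    rw [hσ]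
    exact IsIntegral.map_of_comp_eq (R := S) (T := S) (τ g).toRingHom (σ g).toRingHom
      (RingHom.ext fun s => (hστ g s).symm) hv
  -- ZMT charts
  have hz : ∀ p : PrimeSpectrum R, ∃ S' : Subalgebra S R, S'.toSubmodule.FG ∧ ∃ r : S',
      r.1 ∉ p.asIdeal ∧ Function.Bijective (Localization.awayMap S'.val.toRingHom r) := fun p =>
    Algebra.QuasiFiniteAt.exists_fg_and_exists_notMem_and_awayMap_bijective p.asIdeal
  choose S' hS' r hr hbij using hz
  have hcov : Ideal.span (Set.range fun p => ((r p : S' p) : R)) = ⊤ := by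
    by_contra hne
    obtain ⟨m, hm, hle⟩ := Ideal.exists_le_maximal _ hne
    exact hr ⟨m, hm.isPrime⟩ (hle (Ideal.subset_span ⟨_, rfl⟩))
  obtain ⟨u, hu, hu1⟩ := (Ideal.span_eq_top_iff_finite _).1 hcov
  choose pf hpf using fun x : u => hu x.2
  choose t ht using fun p => hS' p
  have htC : ∀ p, (t p : Set R) ⊆ C := fun p x hx =>
    IsIntegral.of_mem_of_fg (S' p) (hS' p) x (show x ∈ (S' p).toSubmodule from ht p ▸ Submodule.subset_span hx)
  obtain ⟨M, hMfin, hMs, hM⟩ := Comod.exists_finite_subcomod (k := k) (A := A)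
    (⋃ x : u, (t (pf x) : Set R)) (Set.finite_iUnion fun x => (t (pf x)).finite_toSet)
  let W : Submodule k R := M ⊓ C
  have hW : HopfRep.IsSubcomod (k := k) (A := A) W := Comod.isSubcomod_iff.2 fun φ v hv =>
    ⟨Comod.IsSubcomod.actL_mem hM φ hv.1, Comod.IsSubcomod.actL_mem hC φ hv.2⟩
  haveI : Module.Finite k W := Module.Finite.of_injective (Submodule.inclusion (inf_le_left : W ≤ M))
    (Submodule.inclusion_injective _)
  obtain ⟨w, hw⟩ := Module.Finite.iff_fg.1 (inferInstance : Module.Finite k W)
  have hwW : (w : Set R) ⊆ W := hw ▸ Submodule.subset_span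
  let B : Subalgebra S R := Algebra.adjoin S (w : Set R)
  haveI : Module.Finite S B := Module.Finite.iff_fg.2
    (fg_adjoin_of_finite w.finite_toSet fun x hx => (hwW hx).2)
  let B' : Subalgebra k R := B.restrictScalars k
  have hWB : (W : Set R) ⊆ B' := by
    intro x hx
    have : x ∈ Submodule.span k (w : Set R) := hw.symm ▸ hx
    exact (Submodule.span_le.2 (show (w : Set R) ⊆ B'.toSubmodule from Algebra.subset_adjoin)) this
  let ψ : S →ₐ[k] B' := (IsScalarTower.toAlgHom k S R).codRestrict B' fun s => B.algebraMap_mem s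
  let T : Subalgebra k R := (Algebra.TensorProduct.map B'.val (AlgHom.id k A)).range.comap (GLin.coactAlgHom k A R)
  have hBT : ∀ x ∈ B, x ∈ T := by
    intro x hx
    induction hx using Algebra.adjoin_induction with
    | mem x hx =>
      obtain ⟨z, hz⟩ := hW x (hwW hx)
      refine ⟨(show B' ⊗[k] A from TensorProduct.map ((Submodule.inclusion (fun a ha => hWB ha : W ≤ B'.toSubmodule)) : W →ₗ[k] B'.toSubmodule) LinearMap.id z), ?_⟩
      show _ = HopfRep.Comod.coact (k := k) (A := A) x
      rw [← hz]
      clear hz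
      induction z with
      | zero => simp
      | tmul a b => rfl
      | add a b ha hb => simp only [map_add, ha, hb]
    | algebraMap s =>
      refine ⟨Algebra.TensorProduct.map ψ (AlgHom.id k A) (HopfRep.Comod.coact (k := k) (A := A) s), ?_⟩
      show _ = HopfRep.Comod.coact (k := k) (A := A) (algebraMap S R s)
      rw [hequiv]
      generalize HopfRep.Comod.coact (k := k) (A := A) s = z
      induction z with
      | zero => simp
      | tmul a b => rfl
      | add a b ha hb => simp only [map_add, ha, hb]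
    | add a b _ _ ha hb => exact add_mem ha hb
    | mul a b _ _ ha hb => exact mul_mem ha hb
  have hB : HopfRep.IsSubcomod (k := k) (A := A) B'.toSubmodule := fun x hx => by
    obtain ⟨z, hz⟩ := hBT x hx
    exact ⟨z, hz⟩
  let cB : HopfRep.Comod k A B' := ComodSub.Comod.restr inferInstance B'.toSubmodule hB
  letI := cB
  have hι : ∀ x : B', HopfRep.Comod.coact (k := k) (A := A) (B'.val x) =
      Algebra.TensorProduct.map B'.val (AlgHom.id k A) (HopfRep.Comod.coact (k := k) (A := A) x) :=
    fun x => (ComodSub.restr_coact_coe _ B'.toSubmodule hB x).symm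
  have hinj : Function.Injective (Algebra.TensorProduct.map B'.val (AlgHom.id k A)) :=
    ComodSub.rTensor_subtype_injective (A := A) B'.toSubmodule
  haveI hca : GLin.IsCoactAlg k A B' :=
    { coact_one := hinj (by rw [← hι, map_one B'.val, GLin.IsCoactAlg.coact_one, map_one])
      coact_mul := fun f g => hinj (by
        rw [← hι, map_mul B'.val, GLin.IsCoactAlg.coact_mul, map_mul, hι, hι]) }
  refine ⟨B', inferInstance, inferInstance, cB, hca, ?_, ψ, B'.val, ?_, hι, ?_, ?_, ?_⟩
  · have hψ : ψ.toRingHom.Finite := RingHom.finite_algebraMap.2 (inferInstance : Module.Finite S B)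
    have hk : (algebraMap k S).FiniteType := RingHom.finiteType_algebraMap.2 inferInstance
    rw [← RingHom.finiteType_algebraMap, ← ψ.comp_algebraMap]
    exact hψ.finiteType.comp hk
  · intro s
    apply hinj
    rw [← hι]
    show HopfRep.Comod.coact (k := k) (A := A) (algebraMap S R s) = _
    rw [hequiv]
    generalize HopfRep.Comod.coact (k := k) (A := A) s = z
    induction z with
    | zero => simp
    | tmul a b => rfl
    | add a b ha hb => simp only [map_add, ha, hb]
  · exact AlgHom.ext fun s => rfl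
  · exact RingHom.finite_algebraMap.2 (inferInstance : Module.Finite S B)
  · have hle : ∀ x : u, S' (pf x) ≤ B := by
      intro x a ha
      have : a ∈ Submodule.span S (t (pf x) : Set R) := by rw [ht]; exact ha
      refine (Submodule.span_le (p := B.toSubmodule)).2 (fun b hb => ?_) this
      exact hWB ⟨hMs (Set.mem_iUnion.2 ⟨x, hb⟩), htC _ hb⟩
    let bx : u → B' := fun x => ⟨(r (pf x) : R), hle x (r (pf x)).2⟩
    refine isOpenImmersion_specMap_of_awayMap _ (Set.range bx) ?_ ?_
    · refine top_le_iff.1 (hu1.symm.le.trans (Ideal.span_mono fun a ha => ?_))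
      exact ⟨bx ⟨a, ha⟩, ⟨⟨a, ha⟩, rfl⟩, hpf ⟨a, ha⟩⟩
    · rintro - ⟨x, rfl⟩
      refine ⟨IsLocalization.map_injective_of_injective _ _ _ Subtype.val_injective, ?_⟩
      exact awayMap_surjective_of_le (S' (pf x)) (r (pf x)) _ (fun a => ⟨⟨a.1, hle x a.2⟩, rfl⟩) _ rfl
        (hbij (pf x)).2

end Groth.Agent.EquivZMT
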